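/-
helper82 (S2441): two further Boolean table checks on helper18's packed tables.
* `linOK`: the coefficients of the coroot of `w_i(s)` depend linearly on those of `s`;
* `suppOK`: a positive root whose coroot is supported on `{i}` is the `i`-th fundamental root.
-/
import Cfsg.Agent.Lib.Helper61.ChevJ.Tab

set_option autoImplicit false

namespace Cfsg.Agent.Lib.Helper82.TwoBlocks

open Cfsg.Lie Cfsg.Agent.Lib.Helper18 Cfsg.Agent.Lib.Helper61.ChevJ

/-- The check of linearity: `c_i(w_i s) = Σ_j c_j(s) c_i(w_i p_j)`. -/
def linOK (T : FastDatum) (tabs simples : List ℕ) : Bool :=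
  (List.range T.rank).all fun i0 => forceNat i0 fun i => forceNat (tabs.getD i 0) fun tab =>
    (List.range T.nroots).all fun s0 => forceNat s0 fun s => forceNat (tabRoot tab s) fun s' =>
      decide (T.coroot s' i =
        ((List.range T.rank).map fun j => T.coroot s j * T.coroot (tabRoot tab (simples.getD j 0)) i).sum)

theorem linOK_spec (T : FastDatum) (tabs simples : List ℕ) (h : linOK T tabs simples = true)
    (i : ℕ) (hi : i < T.rank) (s : ℕ) (hs : s < T.nroots) :
    T.coroot (tabRoot (tabs.getD i 0) s) i =
      ((List.range T.rank).map fun j =>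
        T.coroot s j * T.coroot (tabRoot (tabs.getD i 0) (simples.getD j 0)) i).sum := by
  unfold linOK at h
  rw [List.all_eq_true] at h
  have h1 := h i (List.mem_range.mpr hi)
  rw [forceNat_eq, forceNat_eq, List.all_eq_true] at h1
  have h2 := h1 s (List.mem_range.mpr hs)
  rw [forceNat_eq, forceNat_eq, decide_eq_true_eq] at h2
  exact h2

/-- The check: a positive root supported on `{i}` is the `i`-th fundamental root. -/
def suppOK (T : FastDatum) (simples : List ℕ) : Bool :=
  (List.range T.rank).all fun i0 => forceNat i0 fun i => forceNat (simples.getD i 0) fun p =>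
    (List.range' (T.nroots / 2) (T.nroots - T.nroots / 2)).all fun r0 => forceNat r0 fun r =>
      decide (r = p) || (List.range T.rank).any fun k => decide (k ≠ i) && decide (T.coroot r k ≠ 0)

theorem suppOK_spec (T : FastDatum) (simples : List ℕ) (h : suppOK T simples = true)
    (i : ℕ) (hi : i < T.rank) (r : ℕ) (hr1 : T.nroots / 2 ≤ r) (hr2 : r < T.nroots)
    (hsupp : ∀ k < T.rank, k ≠ i → T.coroot r k = 0) : r = simples.getD i 0 := by
  unfold suppOK at h
  rw [List.all_eq_true] at h
  have h1 := h i (List.mem_range.mpr hi)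
  rw [forceNat_eq, forceNat_eq, List.all_eq_true] at h1
  have h2 := h1 r (by rw [List.mem_range'_1]; omega)
  rw [forceNat_eq, Bool.or_eq_true, decide_eq_true_eq, List.any_eq_true] at h2
  rcases h2 with h2 | ⟨k, hk, hk2⟩
  · exact h2
  · rw [Bool.and_eq_true, decide_eq_true_eq, decide_eq_true_eq] at hk2
    exact absurd (hsupp k (List.mem_range.mp hk) hk2.1) hk2.2

end Cfsg.Agent.Lib.Helper82.TwoBlocks
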