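/-
helper82 (S2441): the table checks of `TwoBlocks.LinTab` for the seven tabulated data (kernel computations), and the
bundle `LData` extending helper61's `JData2`.
-/
import Cfsg.Agent.Lib.Helper61.ChevJ.Data2
import Cfsg.Agent.Lib.Helper82.TwoBlocks.LinTab

set_option autoImplicit false

namespace Cfsg.Agent.Lib.Helper82.TwoBlocks

open Cfsg.Lie Cfsg.Agent.Lib.Helper18 Cfsg.Agent.Lib.Helper61.ChevJ

set_option maxRecDepth 1000000 in
theorem linOK_G2 : linOK fastG2 wTabs_G2 simples_G2 = true := by decide +kernel

set_option maxRecDepth 1000000 in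
theorem suppOK_G2 : suppOK fastG2 simples_G2 = true := by decide +kernel

set_option maxRecDepth 1000000 in
theorem linOK_B2 : linOK fastB2 wTabs_B2 simples_B2 = true := by decide +kernel

set_option maxRecDepth 1000000 in
theorem suppOK_B2 : suppOK fastB2 simples_B2 = true := by decide +kernel

set_option maxRecDepth 1000000 in
theorem linOK_D4 : linOK fastD4 wTabs_D4 simples_D4 = true := by decide +kernel

set_option maxRecDepth 1000000 in
theorem suppOK_D4 : suppOK fastD4 simples_D4 = true := by decide +kernel

set_option maxRecDepth 1000000 in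
theorem linOK_F4 : linOK fastF4 wTabs_F4 simples_F4 = true := by decide +kernel

set_option maxRecDepth 1000000 in
theorem suppOK_F4 : suppOK fastF4 simples_F4 = true := by decide +kernel

set_option maxRecDepth 1000000 in
theorem linOK_E6 : linOK fastE6 wTabs_E6 simples_E6 = true := by decide +kernel

set_option maxRecDepth 1000000 in
theorem suppOK_E6 : suppOK fastE6 simples_E6 = true := by decide +kernel

set_option maxRecDepth 1000000 in
theorem linOK_E7 : linOK fastE7 wTabs_E7 simples_E7 = true := by decide +kernel

set_option maxRecDepth 1000000 in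
theorem suppOK_E7 : suppOK fastE7 simples_E7 = true := by decide +kernel

set_option maxRecDepth 1000000 in
theorem linOK_E8 : linOK fastE8 wTabs_E8 simples_E8 = true := by decide +kernel

set_option maxRecDepth 1000000 in
theorem suppOK_E8 : suppOK fastE8 simples_E8 = true := by decide +kernel

/-- helper61's bundle `JData2` together with the checks of `TwoBlocks.LinTab`. -/
structure LData.{u} (D : ChevalleyDatum) where
  Y : JData2.{u} D
  hlin : linOK Y.X.C.T Y.X.C.tabs Y.X.C.simples = true
  hsupp1 : suppOK Y.X.C.T Y.X.C.simples = true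

/-- The bundle for type G2. -/
def lData_G2.{u} : LData.{u} chevG2 where
  Y := jData2_G2
  hlin := linOK_G2
  hsupp1 := suppOK_G2

/-- The bundle for type B2. -/
def lData_B2.{u} : LData.{u} chevB2 where
  Y := jData2_B2
  hlin := linOK_B2
  hsupp1 := suppOK_B2

/-- The bundle for type D4. -/
def lData_D4.{u} : LData.{u} chevD4 where
  Y := jData2_D4
  hlin := linOK_D4
  hsupp1 := suppOK_D4

/-- The bundle for type F4. -/
def lData_F4.{u} : LData.{u} chevF4 where
  Y := jData2_F4
  hlin := linOK_F4
  hsupp1 := suppOK_F4

/-- The bundle for type E6. -/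
def lData_E6.{u} : LData.{u} chevE6 where
  Y := jData2_E6
  hlin := linOK_E6
  hsupp1 := suppOK_E6

/-- The bundle for type E7. -/
def lData_E7.{u} : LData.{u} chevE7 where
  Y := jData2_E7
  hlin := linOK_E7
  hsupp1 := suppOK_E7

/-- The bundle for type E8. -/
def lData_E8.{u} : LData.{u} chevE8 where
  Y := jData2_E8
  hlin := linOK_E8
  hsupp1 := suppOK_E8

theorem nonempty_lData.{u} (D : ChevalleyDatum)
    (hD : D ∈ [chevG2, chevB2, chevD4, chevF4, chevE6, chevE7, chevE8]) : Nonempty (LData.{u} D) := by
  simp only [List.mem_cons, List.not_mem_nil, or_false] at hD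
  rcases hD with rfl | rfl | rfl | rfl | rfl | rfl | rfl
  · exact ⟨lData_G2⟩
  · exact ⟨lData_B2⟩
  · exact ⟨lData_D4⟩
  · exact ⟨lData_F4⟩
  · exact ⟨lData_E6⟩
  · exact ⟨lData_E7⟩
  · exact ⟨lData_E8⟩

end Cfsg.Agent.Lib.Helper82.TwoBlocks
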