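/-
helper82 (S2441): definitions for the project "every p-block of a Chevalley group in characteristic p has defect zero
or is the principal block".
-/
import Cfsg.Agent.Lib.Helper82.TwoBlocks.LinData

set_option autoImplicit false

namespace Cfsg.Agent.Lib.Helper82.TwoBlocks

open Cfsg.Lie Cfsg.Agent.Lib.Helper18 Cfsg.Agent.Lib.Helper61.ChevJ

universe u

variable {D : ChevalleyDatum}

/-- The set of positive roots which the word `ws` sends to negative roots (positive roots are the indices
`nroots / 2 ≤ r < nroots`, see `isPosRoot_iff`). -/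
def negSet (C : ChevData.{u} D) (ws : List ℕ) : Finset ℕ :=
  (Finset.range D.nroots).filter fun r => D.nroots / 2 ≤ r ∧ wordRootF C.tabs ws r < D.nroots / 2

theorem mem_negSet (C : ChevData.{u} D) (ws : List ℕ) (r : ℕ) :
    r ∈ negSet C ws ↔ r < D.nroots ∧ D.nroots / 2 ≤ r ∧ wordRootF C.tabs ws r < D.nroots / 2 := by
  unfold negSet
  rw [Finset.mem_filter, Finset.mem_range]

end Cfsg.Agent.Lib.Helper82.TwoBlocks
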