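/-
helper82 (S2441): LIN — the coefficients of the coroot of the image of a root under a word in the fundamental
reflections depend linearly on those of the root; sign consequences.
-/
import Cfsg.Agent.Lib.Helper82.TwoBlocks.Defs
import Cfsg.Agent.Lib.Helper61.ChevJ.Depth

set_option autoImplicit false

namespace Cfsg.Agent.Lib.Helper82.TwoBlocks

open Cfsg Cfsg.Lie Cfsg.Agent.Lib.Helper18 Cfsg.Agent.Lib.Helper61.ChevJ

universe u

variable {D : ChevalleyDatum}

theorem list_sum_range_eq (f : ℕ → ℤ) (n : ℕ) :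
    ((List.range n).map f).sum = ∑ j ∈ Finset.range n, f j := by
  induction n with
  | zero => simp
  | succ n ih =>
    rw [List.range_succ, List.map_append, List.sum_append, ih, Finset.sum_range_succ]
    simp

/-- LIN-[SUPP]. -/
theorem eq_simple_of_inRootSub_singleton (hD : D ∈ [chevG2, chevB2, chevD4, chevF4, chevE6, chevE7, chevE8])
    (Z : LData.{u} D) (i : ℕ) (hi : i < D.rank) (r : ℕ) (hr : D.IsPosRoot r) (h : D.InRootSub {i} r) :
    r = D.simple i := by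
  have hn := Z.Y.X.C.nroots_eq
  have hl := Z.Y.X.C.rank_eq
  obtain ⟨hr1, hr2⟩ := (isPosRoot_iff hD r).mp hr
  obtain ⟨-, h2⟩ := (Z.Y.X.inRootSub_iff {i} r).mp h
  rw [Z.Y.X.C.hsimple i hi]
  apply suppOK_spec Z.Y.X.C.T Z.Y.X.C.simples Z.hsupp1 i (hl ▸ hi) r (hn ▸ hr2) (hn ▸ hr1)
  intro k hk hki
  exact h2 k (hl ▸ hk) (by simpa using hki)

/-- The coefficients of the coroot of a fundamental root. -/
theorem sum_coroot_simple (Z : LData.{u} D) (c : ℕ → ℤ) (k : ℕ) (hk : k < D.rank) :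
    ∑ j ∈ Finset.range D.rank, c j * Z.Y.X.C.T.coroot (D.simple j) k = c k := by
  have : ∀ j ∈ Finset.range D.rank, c j * Z.Y.X.C.T.coroot (D.simple j) k = if k = j then c j else 0 := by
    intro j hj
    rw [Z.Y.X.coroot_simple j (Finset.mem_range.mp hj) k hk]
    split_ifs <;> simp
  rw [Finset.sum_congr rfl this, Finset.sum_ite_eq]
  simp [hk]

/-- Linearity for one fundamental reflection. -/
theorem coroot_w_lin (Z : LData.{u} D) (i : ℕ) (hi : i < D.rank) (s : ℕ) (hs : s < D.nroots) (k : ℕ)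
    (hk : k < D.rank) :
    Z.Y.X.C.T.coroot (Z.Y.X.C.w i s) k =
      ∑ j ∈ Finset.range D.rank,
        Z.Y.X.C.T.coroot s j * Z.Y.X.C.T.coroot (Z.Y.X.C.w i (D.simple j)) k := by
  have hn := Z.Y.X.C.nroots_eq
  have hl := Z.Y.X.C.rank_eq
  by_cases hki : k = i
  · subst hki
    have h1 := linOK_spec Z.Y.X.C.T Z.Y.X.C.tabs Z.Y.X.C.simples Z.hlin k (hl ▸ hk) s (hn ▸ hs)
    rw [list_sum_range_eq, hl] at h1
    show Z.Y.X.C.T.coroot (tabRoot (Z.Y.X.C.tabs.getD k 0) s) k = _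
    rw [h1]
    apply Finset.sum_congr rfl
    intro j hj
    rw [Z.Y.X.C.hsimple j (Finset.mem_range.mp hj)]
    rfl
  · rw [Z.Y.X.coroot_w i hi s hs k hk hki]
    have : ∀ j ∈ Finset.range D.rank,
        Z.Y.X.C.T.coroot s j * Z.Y.X.C.T.coroot (Z.Y.X.C.w i (D.simple j)) k
          = Z.Y.X.C.T.coroot s j * Z.Y.X.C.T.coroot (D.simple j) k := by
      intro j hj
      rw [Z.Y.X.coroot_w i hi _ (Z.Y.X.C.simple_lt j (Finset.mem_range.mp hj)) k hk hki]
    rw [Finset.sum_congr rfl this, sum_coroot_simple Z _ k hk]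

/-- LIN-[WORD]. -/
theorem coroot_wordRootF (Z : LData.{u} D) (ws : List ℕ) (hws : ∀ i ∈ ws, i < D.rank) (r : ℕ)
    (hr : r < D.nroots) (k : ℕ) (hk : k < D.rank) :
    Z.Y.X.C.T.coroot (wordRootF Z.Y.X.C.tabs ws r) k =
      ∑ j ∈ Finset.range D.rank,
        Z.Y.X.C.T.coroot r j * Z.Y.X.C.T.coroot (wordRootF Z.Y.X.C.tabs ws (D.simple j)) k := by
  induction ws generalizing k with
  | nil =>
    show Z.Y.X.C.T.coroot r k = ∑ j ∈ Finset.range D.rank,
      Z.Y.X.C.T.coroot r j * Z.Y.X.C.T.coroot (D.simple j) k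
    rw [sum_coroot_simple Z _ k hk]
  | cons i ws ih =>
    have hws' : ∀ j ∈ ws, j < D.rank := fun j hj => hws j (List.mem_cons_of_mem _ hj)
    have hi : i < D.rank := hws i List.mem_cons_self
    have hlt : ∀ s < D.nroots, wordRootF Z.Y.X.C.tabs ws s < D.nroots :=
      fun s hs => wordRootF_lt Z.Y.X.C ws hws' s hs
    show Z.Y.X.C.T.coroot (Z.Y.X.C.w i (wordRootF Z.Y.X.C.tabs ws r)) k = ∑ j ∈ Finset.range D.rank,
      Z.Y.X.C.T.coroot r j * Z.Y.X.C.T.coroot (Z.Y.X.C.w i (wordRootF Z.Y.X.C.tabs ws (D.simple j))) k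
    rw [coroot_w_lin Z i hi _ (hlt r hr) k hk]
    have h1 : ∀ l ∈ Finset.range D.rank,
        Z.Y.X.C.T.coroot (wordRootF Z.Y.X.C.tabs ws r) l * Z.Y.X.C.T.coroot (Z.Y.X.C.w i (D.simple l)) k
        = ∑ j ∈ Finset.range D.rank, Z.Y.X.C.T.coroot r j *
            (Z.Y.X.C.T.coroot (wordRootF Z.Y.X.C.tabs ws (D.simple j)) l *
              Z.Y.X.C.T.coroot (Z.Y.X.C.w i (D.simple l)) k) := by
      intro l hl'
      rw [ih hws' l (Finset.mem_range.mp hl'), Finset.sum_mul]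
      apply Finset.sum_congr rfl
      intro j _
      ring
    rw [Finset.sum_congr rfl h1, Finset.sum_comm]
    apply Finset.sum_congr rfl
    intro j hj
    rw [← Finset.mul_sum]
    congr 1
    exact (coroot_w_lin Z i hi _ (hlt _ (Z.Y.X.C.simple_lt j (Finset.mem_range.mp hj))) k hk).symm

/-- The coefficients of the coroot of a negative root are non-positive, and one of them is not zero. -/
theorem coroot_of_neg (hD : D ∈ [chevG2, chevB2, chevD4, chevF4, chevE6, chevE7, chevE8])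
    (Z : LData.{u} D) (s : ℕ) (hs : s < D.nroots / 2) :
    (∀ k < D.rank, Z.Y.X.C.T.coroot s k ≤ 0) ∧ ∃ k < D.rank, Z.Y.X.C.T.coroot s k ≠ 0 := by
  have hn := Z.Y.X.C.nroots_eq
  have hev := Z.Y.X.C.heven
  have hs' : s < D.nroots := by omega
  have hneg : D.neg s = D.nroots - 1 - s := by
    rw [Z.Y.X.C.neg_eq s hs']
    unfold FastDatum.neg
    rw [hn]
  have hpos : D.IsPosRoot (D.neg s) := by
    rw [isPosRoot_iff hD, hneg]
    omega
  have hnn : D.neg (D.neg s) = s := by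
    rw [Z.Y.X.C.neg_eq _ hpos.1]
    unfold FastDatum.neg
    rw [hn, hneg]
    omega
  have hco : ∀ k < D.rank, Z.Y.X.C.T.coroot s k = - Z.Y.X.C.T.coroot (D.neg s) k := by
    intro k hk
    have := Z.Y.X.coroot_neg (D.neg s) hpos.1 k hk
    rwa [hnn] at this
  constructor
  · intro k hk
    rw [hco k hk]
    have := Z.Y.X.coroot_nonneg (D.neg s) hpos k hk
    omega
  · have hnot := not_inRootSub_empty hD (D.neg s) hpos
    rw [Z.Y.X.inRootSub_iff] at hnot
    push Not at hnot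
    obtain ⟨k, hk, -, hne⟩ := hnot hpos.1
    refine ⟨k, hk, ?_⟩
    rw [hco k hk]
    omega

/-- One of the coefficients of the coroot of a positive root is not zero. -/
theorem coroot_of_pos (hD : D ∈ [chevG2, chevB2, chevD4, chevF4, chevE6, chevE7, chevE8])
    (Z : LData.{u} D) (s : ℕ) (hs : D.IsPosRoot s) : ∃ k < D.rank, Z.Y.X.C.T.coroot s k ≠ 0 := by
  have hnot := not_inRootSub_empty hD s hs
  rw [Z.Y.X.inRootSub_iff] at hnot
  push Not at hnot
  obtain ⟨k, hk, -, hne⟩ := hnot hs.1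
  exact ⟨k, hk, hne⟩

/-- LIN-[POS]. -/
theorem wordRootF_pos_of_simple_pos (hD : D ∈ [chevG2, chevB2, chevD4, chevF4, chevE6, chevE7, chevE8])
    (Z : LData.{u} D) (ws : List ℕ) (hws : ∀ i ∈ ws, i < D.rank)
    (h : ∀ j < D.rank, D.nroots / 2 ≤ wordRootF Z.Y.X.C.tabs ws (D.simple j))
    (r : ℕ) (hr : D.IsPosRoot r) : D.nroots / 2 ≤ wordRootF Z.Y.X.C.tabs ws r := by
  by_contra hlt
  push Not at hlt
  obtain ⟨hle, k, hk, hne⟩ := coroot_of_neg hD Z _ hlt
  have h0 : 0 ≤ Z.Y.X.C.T.coroot (wordRootF Z.Y.X.C.tabs ws r) k := by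
    rw [coroot_wordRootF Z ws hws r hr.1 k hk]
    apply Finset.sum_nonneg
    intro j hj
    have hj' := Finset.mem_range.mp hj
    apply mul_nonneg (Z.Y.X.coroot_nonneg r hr j hj')
    apply Z.Y.X.coroot_nonneg _ _ k hk
    rw [isPosRoot_iff hD]
    exact ⟨wordRootF_lt Z.Y.X.C ws hws _ (Z.Y.X.C.simple_lt j hj'), h j hj'⟩
  have := hle k hk
  omega

/-- LIN-[NEG]. -/
theorem wordRootF_neg_of_simple_neg (hD : D ∈ [chevG2, chevB2, chevD4, chevF4, chevE6, chevE7, chevE8])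
    (Z : LData.{u} D) (ws : List ℕ) (hws : ∀ i ∈ ws, i < D.rank) (J : Set ℕ)
    (h : ∀ j < D.rank, j ∈ J → wordRootF Z.Y.X.C.tabs ws (D.simple j) < D.nroots / 2)
    (r : ℕ) (hr : D.IsPosRoot r) (hrJ : D.InRootSub J r) :
    wordRootF Z.Y.X.C.tabs ws r < D.nroots / 2 := by
  classical
  by_contra hge
  push Not at hge
  have hpos : D.IsPosRoot (wordRootF Z.Y.X.C.tabs ws r) := by
    rw [isPosRoot_iff hD]
    exact ⟨wordRootF_lt Z.Y.X.C ws hws r hr.1, hge⟩
  obtain ⟨k, hk, hne⟩ := coroot_of_pos hD Z _ hpos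
  have h0 := Z.Y.X.coroot_nonneg _ hpos k hk
  obtain ⟨-, hrJ2⟩ := (Z.Y.X.inRootSub_iff J r).mp hrJ
  have h1 : Z.Y.X.C.T.coroot (wordRootF Z.Y.X.C.tabs ws r) k ≤ 0 := by
    rw [coroot_wordRootF Z ws hws r hr.1 k hk]
    apply Finset.sum_nonpos
    intro j hj
    have hj' := Finset.mem_range.mp hj
    by_cases hjJ : j ∈ J
    · apply mul_nonpos_of_nonneg_of_nonpos (Z.Y.X.coroot_nonneg r hr j hj')
      exact (coroot_of_neg hD Z _ (h j hj' hjJ)).1 k hk
    · rw [hrJ2 j hj' hjJ, zero_mul]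
  omega

end Cfsg.Agent.Lib.Helper82.TwoBlocks
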