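/-
helper82 (S2441): BL-[CONSTR] — the normalizer in `G = D.group F` of the unipotent radical `U_J` of a proper parabolic
subgroup is `p`-constrained with trivial `p'`-core, hence has exactly one `p`-block.
-/
import Cfsg.Agent.Lib.Helper82.TwoBlocks.Defs
import Cfsg.Agent.Lib.Helper82.OneBlock.Constrained
import Cfsg.Agent.Lib.Helper61.ChevJ.Cent
import Cfsg.Agent.Lib.Helper1.PCore
import Cfsg.Agent.S1049
import Cfsg.Agent.S2155

set_option autoImplicit false

namespace Cfsg.Agent.Lib.Helper82.TwoBlocks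

open Cfsg Cfsg.Lie Cfsg.Agent.Lib.Helper18 Cfsg.Agent.Lib.Helper61.ChevJ
open Cfsg.Agent.Lib.Helper82.OneBlock

universe u

variable {F : Type u} [Field F] {D : ChevalleyDatum}

/-- BL-[CONSTR]. -/
theorem hasOneBlock_normalizer_radical [Fintype F] (p : ℕ) [Fact p.Prime] [CharP F p]
    (hD : D ∈ [chevG2, chevB2, chevD4, chevF4, chevE6, chevE7, chevE8])
    (M : Ideal AlgInt) (hM : IsPModular p M) (J : Set ℕ) (hJ : ∃ i < D.rank, i ∉ J) :
    HasOneBlock M ↥(Subgroup.normalizer
      (((D.unipotentRadical F J).subgroupOf (D.group F) : Subgroup ↥(D.group F)) : Set ↥(D.group F))) := by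
  classical
  obtain ⟨Y⟩ := nonempty_jData2.{u} D hD
  obtain ⟨i₀, hi₀, hi₀J⟩ := hJ
  have hU := Cfsg.Agent.S2155.isPGroup_posUnipotent (F := F) p D hD
  have hPG : D.parabolicSubgroup F J ≤ D.group F := Cfsg.Agent.S1049.parabolic_le_group hD Y.X.C J
  have hUJP : D.unipotentRadical F J ≤ D.parabolicSubgroup F J :=
    (unipotentRadical_le_posUnipotent J).trans
      (fun g hg => le_sup_left (a := D.borelSubgroup F) (borel_of_posUnipotent g hg))
  have hUJG : D.unipotentRadical F J ≤ D.group F := hUJP.trans hPG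
  set Q : Subgroup ↥(D.group F) := (D.unipotentRadical F J).subgroupOf (D.group F) with hQ
  set Hn : Subgroup ↥(D.group F) := Subgroup.normalizer (Q : Set ↥(D.group F)) with hHn
  -- elements of the normalizer lie in `P_J`
  have hmemP : ∀ y : ↥(D.group F), y ∈ Hn → (y : GL D.Idx F) ∈ D.parabolicSubgroup F J := by
    intro y hy
    rw [← Cfsg.Agent.S1049.main hD J]
    refine Subgroup.mem_inf.mpr ⟨?_, y.2⟩
    rw [Subgroup.mem_normalizer_iff]
    intro g
    have hy' := Subgroup.mem_normalizer_iff.mp hy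
    constructor
    · intro hg
      have := (hy' ⟨g, hUJG hg⟩).mp (Subgroup.mem_subgroupOf.mpr hg)
      exact Subgroup.mem_subgroupOf.mp this
    · intro hg
      have hgG : g ∈ D.group F := by
        have h1 : (y : GL D.Idx F) * g * (y : GL D.Idx F)⁻¹ ∈ D.group F := hUJG hg
        have e : g = (y : GL D.Idx F)⁻¹ * ((y : GL D.Idx F) * g * (y : GL D.Idx F)⁻¹) * (y : GL D.Idx F) := by
          group
        rw [e]
        exact mul_mem (mul_mem (inv_mem y.2) h1) y.2
      have := (hy' ⟨g, hgG⟩).mpr (Subgroup.mem_subgroupOf.mpr hg)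
      exact Subgroup.mem_subgroupOf.mp this
  -- the two normal `p`-subgroups
  set E1 : Subgroup ↥Hn := Q.subgroupOf Hn with hE1
  set E2 : Subgroup ↥Hn := ((centUJ D F J).subgroupOf (D.group F)).subgroupOf Hn with hE2
  have hN1 : E1.Normal := Subgroup.normal_in_normalizer
  have hN2 : E2.Normal := by
    apply Subgroup.normal_subgroupOf_of_le_normalizer
    intro y hy
    have hyP := hmemP y hy
    have hn := parabolic_le_normalizer_centUJ hD Y.X J hyP
    rw [Subgroup.mem_normalizer_iff]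
    intro z
    have := Subgroup.mem_normalizer_iff.mp hn (z : GL D.Idx F)
    constructor
    · intro hz
      exact Subgroup.mem_subgroupOf.mpr (this.mp (Subgroup.mem_subgroupOf.mp hz))
    · intro hz
      exact Subgroup.mem_subgroupOf.mpr (this.mpr (Subgroup.mem_subgroupOf.mp hz))
  have hp1 : IsPGroup p E1 :=
    ((hU.to_le (unipotentRadical_le_posUnipotent J)).comap_subtype).comap_subtype
  have hp2 : IsPGroup p E2 :=
    ((hU.to_le (Y.centUJ_le_posUnipotent hD J i₀ hi₀ hi₀J)).comap_subtype).comap_subtype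
  have h1 : E1 ≤ pCore p ↥Hn := Cfsg.Agent.Lib.Helper1.le_pCore hN1 hp1
  have h2 : E2 ≤ pCore p ↥Hn := Cfsg.Agent.Lib.Helper1.le_pCore hN2 hp2
  have hQHn : Q ≤ Hn := Subgroup.le_normalizer
  have hcent : Subgroup.centralizer ((pCore p ↥Hn : Subgroup ↥Hn) : Set ↥Hn) ≤ pCore p ↥Hn := by
    intro y hy
    apply h2
    rw [hE2, Subgroup.mem_subgroupOf, Subgroup.mem_subgroupOf, mem_centUJ]
    refine ⟨?_, hmemP y.1 y.2⟩
    intro z hz
    have hzQ : (⟨z, hUJG hz⟩ : ↥(D.group F)) ∈ Q := Subgroup.mem_subgroupOf.mpr hz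
    have hzE1 : (⟨⟨z, hUJG hz⟩, hQHn hzQ⟩ : ↥Hn) ∈ E1 := Subgroup.mem_subgroupOf.mpr hzQ
    have := (Subgroup.mem_centralizer_iff.mp hy) _ (h1 hzE1)
    have h3 := congrArg (fun w : ↥Hn => ((w : ↥(D.group F)) : GL D.Idx F)) this
    exact h3
  have : (pCore p ↥Hn).Normal := Cfsg.Agent.Lib.Helper1.pCore_normal p
  exact hasOneBlock_of_normal_pSubgroup p M hM (pCore p ↥Hn)
    (Cfsg.Agent.Lib.Helper1.pCore_isPGroup p) hcent

end Cfsg.Agent.Lib.Helper82.TwoBlocks
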