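/-
helper82 (S2441): COUNT — peeling a fundamental reflection which the word sends to a negative root decreases the
number of positive roots made negative.
-/
import Cfsg.Agent.Lib.Helper82.TwoBlocks.Defs
import Cfsg.Agent.Lib.Helper18.BN6

set_option autoImplicit false

namespace Cfsg.Agent.Lib.Helper82.TwoBlocks

open Cfsg Cfsg.Lie Cfsg.Agent.Lib.Helper18 Cfsg.Agent.Lib.Helper61.ChevJ

universe u

variable {D : ChevalleyDatum}

/-- COUNT. -/
theorem card_negSet_append_lt (C : ChevData.{u} D) (ws : List ℕ) (hws : ∀ i ∈ ws, i < D.rank) (i : ℕ)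
    (hi : i < D.rank) (hneg : wordRootF C.tabs ws (D.simple i) < D.nroots / 2) :
    (negSet C (ws ++ [i])).card < (negSet C ws).card := by
  have hn := C.nroots_eq
  have hl := C.rank_eq
  have hev := C.heven
  have hsl := C.simple_lt i hi
  have hsh := C.half_le_simple i hi
  have happ : ∀ r, wordRootF C.tabs (ws ++ [i]) r = wordRootF C.tabs ws (C.w i r) := by
    intro r
    rw [wordRootF_append]
    rfl
  have hsmem : D.simple i ∈ negSet C ws := by
    rw [mem_negSet]
    exact ⟨hsl, hsh, hneg⟩
  have hmaps : ∀ r ∈ negSet C (ws ++ [i]), C.w i r ∈ (negSet C ws).erase (D.simple i) := by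
    intro r hr
    rw [mem_negSet, happ] at hr
    obtain ⟨hr1, hr2, hr3⟩ := hr
    have hne : r ≠ D.simple i := by
      rintro rfl
      rw [w_simple C i hi, wordRootF_neg C ws hws _ hsl] at hr3
      have hlt := wordRootF_lt C ws hws _ hsl
      unfold FastDatum.neg at hr3
      omega
    have hne' : r ≠ C.simples.getD i 0 := by rwa [← C.hsimple i hi]
    have hp := C.spec.refl_pos i (hl ▸ hi) r (hn ▸ hr2) (hn ▸ hr1) hne'
    rw [Finset.mem_erase, mem_negSet]
    refine ⟨?_, C.w_lt i r hi hr1, ?_, hr3⟩
    · rw [C.hsimple i hi]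
      exact hp.2
    · have := hp.1
      rw [hn] at this
      exact this
  have hinj : Set.InjOn (C.w i) (negSet C (ws ++ [i]) : Set ℕ) := by
    intro a ha b hb hab
    have ha' := ((mem_negSet C _ a).mp ha).1
    have hb' := ((mem_negSet C _ b).mp hb).1
    rw [← C.w_w i a hi ha', ← C.w_w i b hi hb', hab]
  calc (negSet C (ws ++ [i])).card ≤ ((negSet C ws).erase (D.simple i)).card :=
        Finset.card_le_card_of_injOn (C.w i) hmaps hinj
    _ < (negSet C ws).card := Finset.card_erase_lt_of_mem hsmem

end Cfsg.Agent.Lib.Helper82.TwoBlocks
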