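/-
helper82 (S2441): UPSI — `{g ∈ U : m g m⁻¹ ∈ U}` for `m = nW ws * h` is generated by the root subgroups of the positive
roots which the word keeps positive.
-/
import Cfsg.Agent.Lib.Helper82.TwoBlocks.Defs
import Cfsg.Agent.Lib.Helper18.Bruhat1

set_option autoImplicit false

namespace Cfsg.Agent.Lib.Helper82.TwoBlocks

open Cfsg Cfsg.Lie Cfsg.Agent.Lib.Helper18 Cfsg.Agent.Lib.Helper61.ChevJ

universe u

variable {F : Type u} [Field F] {D : ChevalleyDatum}

/-- Conjugation of a root element by `nW ws * h`. -/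
theorem conj_word_xG (hD : D ∈ [chevG2, chevB2, chevD4, chevF4, chevE6, chevE7, chevE8])
    (C : ChevData.{u} D) (ws : List ℕ) (hws : ∀ i ∈ ws, i < D.rank) (h : GL D.Idx F)
    (hh : h ∈ D.diagonalSubgroup F) (r : ℕ) (hr : r < D.nroots) (t : F) :
    ∃ t' : F, nW hD C ws * h * xG hD r t * (nW hD C ws * h)⁻¹ = xG hD (wordRootF C.tabs ws r) t' := by
  obtain ⟨t', ht'⟩ := Cfsg.Agent.S1036.conj_root_elem D hD h hh (xG hD r t) r hr t rfl
  have e1 : h * xG hD r t * h⁻¹ = xG hD r t' := Units.ext ht'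
  refine ⟨(wordSignF C.tabs ws r : F) * t', ?_⟩
  have e2 : nW hD C ws * h * xG hD r t * (nW hD C ws * h)⁻¹
      = nW hD C ws * (h * xG hD r t * h⁻¹) * (nW hD C ws)⁻¹ := by group
  rw [e2, e1, nW_conj_xG hD C ws hws r hr]

/-- Conjugating an ordered product of root elements whose conjugates lie in a subgroup `K`. -/
theorem conj_prodL_mem (hD : D ∈ [chevG2, chevB2, chevD4, chevF4, chevE6, chevE7, chevE8])
    (m : GL D.Idx F) (K : Subgroup (GL D.Idx F)) (l : List ℕ)
    (hl : ∀ r ∈ l, ∀ t : F, m * xG hD r t * m⁻¹ ∈ K) (t : ℕ → F) :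
    m * prodL hD l t * m⁻¹ ∈ K := by
  induction l with
  | nil => simp [prodL_nil, one_mem]
  | cons a l ih =>
    rw [prodL_cons]
    have e : m * (xG hD a (t a) * prodL hD l t) * m⁻¹
        = (m * xG hD a (t a) * m⁻¹) * (m * prodL hD l t * m⁻¹) := by group
    rw [e]
    exact mul_mem (hl a List.mem_cons_self (t a)) (ih fun r hr => hl r (List.mem_cons_of_mem _ hr))

/-- UPSI. -/
theorem mem_closure_of_conj_mem (hD : D ∈ [chevG2, chevB2, chevD4, chevF4, chevE6, chevE7, chevE8])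
    (C : ChevData.{u} D) (ws : List ℕ) (hws : ∀ i ∈ ws, i < D.rank) (h : GL D.Idx F)
    (hh : h ∈ D.diagonalSubgroup F) (g : GL D.Idx F) (hg : g ∈ D.posUnipotent F)
    (hg' : nW hD C ws * h * g * (nW hD C ws * h)⁻¹ ∈ D.posUnipotent F) :
    g ∈ Subgroup.closure {x : GL D.Idx F | ∃ (s : ℕ) (t : F),
      (D.IsPosRoot s ∧ D.nroots / 2 ≤ wordRootF C.tabs ws s) ∧ (x : Matrix D.Idx D.Idx F) = D.x F s t} := by
  classical
  obtain ⟨L⟩ := nonempty_levelData D hD
  set m : GL D.Idx F := nW hD C ws * h with hm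
  let p : ℕ → Bool := fun r => decide (wordRootF C.tabs ws r < D.nroots / 2)
  have hmem : ∀ r, r ∈ D.posRoots ↔ D.IsPosRoot r := by
    intro r
    unfold ChevalleyDatum.posRoots
    rw [List.mem_filter, List.mem_range, decide_eq_true_eq]
    exact ⟨fun h => h.2, fun h => ⟨h.1, h⟩⟩
  have hnd : D.posRoots.Nodup := by
    unfold ChevalleyDatum.posRoots
    exact List.Nodup.filter _ List.nodup_range
  have hperm : List.Perm ((D.posRoots.filter fun r => !p r) ++ D.posRoots.filter p) D.posRoots :=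
    (List.perm_append_comm.trans (List.filter_append_perm p D.posRoots))
  have hl : ∀ r ∈ (D.posRoots.filter fun r => !p r) ++ D.posRoots.filter p, D.IsPosRoot r :=
    fun r hr => (hmem r).mp (hperm.mem_iff.mp hr)
  obtain ⟨t, ht⟩ := exists_prodL hD C L _ hl (hperm.nodup_iff.mpr hnd)
    (fun r hr => hperm.mem_iff.mpr ((hmem r).mpr hr)) g hg
  rw [prodL_append] at ht
  set u₁ := prodL hD (D.posRoots.filter fun r => !p r) t with hu₁
  set u₂ := prodL hD (D.posRoots.filter p) t with hu₂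
  -- `u₁` lies in the closure
  have h1 : u₁ ∈ Subgroup.closure {x : GL D.Idx F | ∃ (s : ℕ) (t : F),
      (D.IsPosRoot s ∧ D.nroots / 2 ≤ wordRootF C.tabs ws s) ∧ (x : Matrix D.Idx D.Idx F) = D.x F s t} := by
    apply prodL_mem_closure hD (fun s => D.IsPosRoot s ∧ D.nroots / 2 ≤ wordRootF C.tabs ws s)
    intro r hr
    rw [List.mem_filter] at hr
    refine ⟨(hmem r).mp hr.1, ?_⟩
    have h2 := hr.2
    simp only [p, Bool.not_eq_true', decide_eq_false_iff_not, not_lt] at h2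
    exact h2
  -- `m u₁ m⁻¹ ∈ U`
  have h2 : m * u₁ * m⁻¹ ∈ D.posUnipotent F := by
    apply conj_prodL_mem hD m
    intro r hr t'
    rw [List.mem_filter] at hr
    have hrpos := (hmem r).mp hr.1
    have h3 := hr.2
    simp only [p, Bool.not_eq_true', decide_eq_false_iff_not, not_lt] at h3
    obtain ⟨t'', ht''⟩ := conj_word_xG hD C ws hws h hh r hrpos.1 t'
    rw [hm, ht'']
    exact xG_mem_posUnipotent hD _ _
      ((isPosRoot_iff hD _).mpr ⟨wordRootF_lt C ws hws r hrpos.1, h3⟩)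
  -- `m u₂ m⁻¹ ∈ V`
  have h3 : m * u₂ * m⁻¹ ∈ D.negUnipotent F := by
    apply conj_prodL_mem hD m
    intro r hr t'
    rw [List.mem_filter] at hr
    have hrpos := (hmem r).mp hr.1
    have h4 := hr.2
    simp only [p, decide_eq_true_eq] at h4
    obtain ⟨t'', ht''⟩ := conj_word_xG hD C ws hws h hh r hrpos.1 t'
    rw [hm, ht'']
    exact Subgroup.subset_closure ⟨_, t'', isNegRoot_of_lt D (signOK_of_mem D hD) _
      (wordRootF_lt C ws hws r hrpos.1) h4, rfl⟩
  -- `m u₂ m⁻¹ ∈ U`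
  have h4 : m * u₂ * m⁻¹ ∈ D.posUnipotent F := by
    have e : m * u₂ * m⁻¹ = (m * u₁ * m⁻¹)⁻¹ * (m * g * m⁻¹) := by
      rw [ht]; group
    rw [e]
    exact mul_mem (inv_mem h2) hg'
  have h5 : m * u₂ * m⁻¹ ∈ D.borelSubgroup F ⊓ D.negUnipotent F :=
    Subgroup.mem_inf.mpr ⟨borel_of_posUnipotent _ h4, h3⟩
  rw [(Cfsg.Agent.S1037.result D hD).1, Subgroup.mem_bot] at h5
  have h6 : u₂ = 1 := by
    have : u₂ = m⁻¹ * (m * u₂ * m⁻¹) * m := by group
    rw [this, h5]; group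
  rw [ht, h6, mul_one]
  exact h1

end Cfsg.Agent.Lib.Helper82.TwoBlocks
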