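/-
helper82 (S2441): G3 — a monomial element whose root permutation keeps all fundamental roots positive lies in `B`.
-/
import Cfsg.Agent.Lib.Helper82.TwoBlocks.Lin
import Cfsg.Agent.Lib.Helper82.TwoBlocks.Upsi
import Cfsg.Agent.S1049

set_option autoImplicit false

namespace Cfsg.Agent.Lib.Helper82.TwoBlocks

open Cfsg Cfsg.Lie Cfsg.Agent.Lib.Helper18 Cfsg.Agent.Lib.Helper61.ChevJ

universe u

variable {F : Type u} [Field F] {D : ChevalleyDatum}

/-- `U_∅ = U`. -/
theorem unipotentRadical_empty (hD : D ∈ [chevG2, chevB2, chevD4, chevF4, chevE6, chevE7, chevE8]) :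
    D.unipotentRadical F ∅ = D.posUnipotent F := by
  apply le_antisymm (unipotentRadical_le_posUnipotent ∅)
  unfold ChevalleyDatum.unipotentRadical ChevalleyDatum.posUnipotent
  apply Subgroup.closure_mono
  rintro g ⟨r, t, hr, hg⟩
  exact ⟨r, t, hr, not_inRootSub_empty hD r hr, hg⟩

/-- `P_∅ = B`. -/
theorem parabolicSubgroup_empty : D.parabolicSubgroup F ∅ = D.borelSubgroup F := by
  unfold ChevalleyDatum.parabolicSubgroup
  have : {g : GL D.Idx F | ∃ j ∈ (∅ : Set ℕ), j < D.rank ∧
      (g : Matrix D.Idx D.Idx F) = D.nMat F (D.simple j) 1} = ∅ := by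
    ext g
    simp
  rw [this, Subgroup.closure_empty, sup_bot_eq]

/-- G3. -/
theorem mem_borel_of_simple_pos [Finite F] (hD : D ∈ [chevG2, chevB2, chevD4, chevF4, chevE6, chevE7, chevE8])
    (Z : LData.{u} D) (ws : List ℕ) (hws : ∀ i ∈ ws, i < D.rank) (h : GL D.Idx F)
    (hh : h ∈ D.diagonalSubgroup F)
    (hpos : ∀ j < D.rank, D.nroots / 2 ≤ wordRootF Z.Y.X.C.tabs ws (D.simple j)) :
    nW hD Z.Y.X.C ws * h ∈ D.borelSubgroup F := by
  classical
  obtain ⟨-, hNG, -⟩ := Cfsg.Agent.S1043.result (F := F) D hD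
  set m : GL D.Idx F := nW hD Z.Y.X.C ws * h with hm
  have hmN : m ∈ D.monomialSubgroup F := by
    refine mul_mem (nW_mem_monomial hD Z.Y.X.C ws) ?_
    unfold ChevalleyDatum.monomialSubgroup
    exact Subgroup.mem_sup_left hh
  -- `m U m⁻¹ ≤ U`
  have hle : (D.posUnipotent F).map (MulAut.conj m).toMonoidHom ≤ D.posUnipotent F := by
    rw [Subgroup.map_le_iff_le_comap]
    unfold ChevalleyDatum.posUnipotent
    rw [Subgroup.closure_le]
    rintro g ⟨r, t, hr, hg⟩
    have hg' : g = xG hD r t := Units.ext hg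
    rw [SetLike.mem_coe, Subgroup.mem_comap]
    show (MulAut.conj m) g ∈ _
    rw [MulAut.conj_apply, hg']
    obtain ⟨t', ht'⟩ := conj_word_xG hD Z.Y.X.C ws hws h hh r hr.1 t
    rw [ht']
    apply Subgroup.subset_closure
    refine ⟨_, t', ?_, rfl⟩
    rw [isPosRoot_iff hD]
    exact ⟨wordRootF_lt Z.Y.X.C ws hws r hr.1, wordRootF_pos_of_simple_pos hD Z ws hws hpos r hr⟩
  -- equality by finiteness
  have heq : (D.posUnipotent F).map (MulAut.conj m).toMonoidHom = D.posUnipotent F := by
    apply Subgroup.eq_of_le_of_card_ge hle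
    rw [Subgroup.card_map_of_injective (MulAut.conj m).injective]
  have hnorm : m ∈ Subgroup.normalizer (D.posUnipotent F : Set (GL D.Idx F)) := by
    rw [Subgroup.mem_normalizer_iff]
    intro g
    constructor
    · intro hg
      apply hle
      exact ⟨g, hg, by simp [MulAut.conj_apply]⟩
    · intro hg
      rw [← heq] at hg
      obtain ⟨k, hk, hkg⟩ := hg
      have hkg' : m * k * m⁻¹ = m * g * m⁻¹ := by
        rw [← hkg]; simp [MulAut.conj_apply]
      have : k = g := by
        have := congrArg (fun z => m⁻¹ * z * m) hkg'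
        simpa [mul_assoc] using this
      rw [← this]; exact hk
  have hmem : m ∈ Subgroup.normalizer (D.unipotentRadical F ∅ : Set (GL D.Idx F)) ⊓ D.group F := by
    rw [unipotentRadical_empty hD]
    exact Subgroup.mem_inf.mpr ⟨hnorm, hNG hmN⟩
  rw [Cfsg.Agent.S1049.main hD ∅, parabolicSubgroup_empty] at hmem
  exact hmem

end Cfsg.Agent.Lib.Helper82.TwoBlocks
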