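/-
helper82 (S2441): WALK — a monomial element `m` such that `m E m⁻¹ ≤ U`, where `E ≤ U_J` and `J` is maximal for the
conjugates of `E` under `P_J`, lies in `P_J`.
-/
import Cfsg.Agent.Lib.Helper82.TwoBlocks.G3
import Cfsg.Agent.Lib.Helper82.TwoBlocks.Count

set_option autoImplicit false

namespace Cfsg.Agent.Lib.Helper82.TwoBlocks

open Cfsg Cfsg.Lie Cfsg.Agent.Lib.Helper18 Cfsg.Agent.Lib.Helper61.ChevJ

universe u

variable {F : Type u} [Field F] {D : ChevalleyDatum}

/-- `n_{p_i}(1) ∈ P_J` for `i ∈ J`. -/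
theorem sG_mem_parabolic (hD : D ∈ [chevG2, chevB2, chevD4, chevF4, chevE6, chevE7, chevE8])
    (C : ChevData.{u} D) (J : Set ℕ) (i : ℕ) (hi : i < D.rank) (hiJ : i ∈ J) :
    sG (F := F) hD C i ∈ D.parabolicSubgroup F J := by
  unfold ChevalleyDatum.parabolicSubgroup
  apply Subgroup.mem_sup_right
  apply Subgroup.subset_closure
  exact ⟨i, hiJ, hi, coe_sG hD C i hi⟩

/-- WALK. -/
theorem mem_parabolic_of_walk [Finite F] (hD : D ∈ [chevG2, chevB2, chevD4, chevF4, chevE6, chevE7, chevE8])
    (J : Set ℕ) (E : Subgroup (GL D.Idx F)) (hEJ : E ≤ D.unipotentRadical F J)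
    (hmax : ∀ y ∈ D.parabolicSubgroup F J, ∀ i < D.rank,
      E.map (MulAut.conj y⁻¹).toMonoidHom ≤ D.unipotentRadical F {i} → i ∈ J)
    (m : GL D.Idx F) (hm : m ∈ D.monomialSubgroup F)
    (hEm : ∀ g ∈ E, m * g * m⁻¹ ∈ D.posUnipotent F) :
    m ∈ D.parabolicSubgroup F J := by
  obtain ⟨Z⟩ := nonempty_lData.{u} D hD
  obtain ⟨ws₀, h₀, hws₀, hh₀, rfl⟩ := isWordH_of_mem_monomial hD Z.Y.X.C m hm
  have hBP : D.borelSubgroup F ≤ D.parabolicSubgroup F J := by
    unfold ChevalleyDatum.parabolicSubgroup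
    exact le_sup_left
  have claim : ∀ k : ℕ, ∀ (ws : List ℕ) (h y : GL D.Idx F), (∀ i ∈ ws, i < D.rank) →
      h ∈ D.diagonalSubgroup F → y ∈ D.parabolicSubgroup F J →
      nW hD Z.Y.X.C ws₀ * h₀ = nW hD Z.Y.X.C ws * h * y⁻¹ → (negSet Z.Y.X.C ws).card = k →
      nW hD Z.Y.X.C ws * h ∈ D.parabolicSubgroup F J := by
    intro k
    induction k using Nat.strong_induction_on with
    | _ k ih =>
      intro ws h y hws hh hy hm' hk
      by_cases hall : ∀ j < D.rank, D.nroots / 2 ≤ wordRootF Z.Y.X.C.tabs ws (D.simple j)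
      · exact hBP (mem_borel_of_simple_pos hD Z ws hws h hh hall)
      · push Not at hall
        obtain ⟨i, hi, hneg⟩ := hall
        have hle : E.map (MulAut.conj y⁻¹).toMonoidHom ≤ D.unipotentRadical F {i} := by
          rintro _ ⟨g, hg, rfl⟩
          have e0 : (MulAut.conj y⁻¹).toMonoidHom g = y⁻¹ * g * y := by
            show (MulAut.conj y⁻¹) g = _
            rw [MulAut.conj_apply, inv_inv]
          rw [e0]
          have hgJ : y⁻¹ * g * y ∈ D.unipotentRadical F J := by
            have hn := parabolic_le_normalizer hD Z.Y.X J (inv_mem hy)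
            have := (Subgroup.mem_normalizer_iff.mp hn g).mp (hEJ hg)
            rwa [inv_inv] at this
          have hgU := unipotentRadical_le_posUnipotent J hgJ
          have hconj : nW hD Z.Y.X.C ws * h * (y⁻¹ * g * y) * (nW hD Z.Y.X.C ws * h)⁻¹
              ∈ D.posUnipotent F := by
            have h1 := hEm g hg
            rw [hm'] at h1
            have e : nW hD Z.Y.X.C ws * h * (y⁻¹ * g * y) * (nW hD Z.Y.X.C ws * h)⁻¹
                = nW hD Z.Y.X.C ws * h * y⁻¹ * g * (nW hD Z.Y.X.C ws * h * y⁻¹)⁻¹ := by group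
            rw [e]
            exact h1
          have hcl := mem_closure_of_conj_mem hD Z.Y.X.C ws hws h hh _ hgU hconj
          refine (Subgroup.closure_le _).mpr ?_ hcl
          rintro x ⟨s, t, ⟨hs, hsp⟩, hx⟩
          refine Subgroup.subset_closure ⟨s, t, hs, ?_, hx⟩
          intro hin
          have hsi := eq_simple_of_inRootSub_singleton hD Z i hi s hs hin
          rw [hsi] at hsp
          omega
        have hiJ : i ∈ J := hmax y hy i hi hle
        have hsP := sG_mem_parabolic (F := F) hD Z.Y.X.C J i hi hiJ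
        have hlt : (negSet Z.Y.X.C (ws ++ [i])).card < k :=
          hk ▸ card_negSet_append_lt Z.Y.X.C ws hws i hi hneg
        have hws' : ∀ j ∈ ws ++ [i], j < D.rank := by
          intro j hj
          rcases List.mem_append.mp hj with hj | hj
          · exact hws j hj
          · rw [List.mem_singleton] at hj
            rw [hj]; exact hi
        have key := ih _ hlt (ws ++ [i]) ((sG hD Z.Y.X.C i)⁻¹ * h * sG hD Z.Y.X.C i) (y * sG hD Z.Y.X.C i)
          hws' (sG_inv_conj_H hD Z.Y.X.C i h hh) (mul_mem hy hsP)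
          (by
            rw [hm', nW_append, nW_cons, nW_nil]
            group) rfl
        have e : nW hD Z.Y.X.C ws * h
            = nW hD Z.Y.X.C (ws ++ [i]) * ((sG hD Z.Y.X.C i)⁻¹ * h * sG hD Z.Y.X.C i) * (sG hD Z.Y.X.C i)⁻¹ := by
          rw [nW_append, nW_cons, nW_nil]
          group
        rw [e]
        exact mul_mem key (inv_mem hsP)
  have := claim _ ws₀ h₀ 1 hws₀ hh₀ (one_mem _) (by simp) rfl
  exact this

end Cfsg.Agent.Lib.Helper82.TwoBlocks
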