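/-
helper82 (S2441): CORE-[N] — the case `E = {g ∈ U : m g m⁻¹ ∈ U}` with `m ∈ N`.
-/
import Cfsg.Agent.Lib.Helper82.TwoBlocks.Walk
import Cfsg.Agent.S1024

set_option autoImplicit false

namespace Cfsg.Agent.Lib.Helper82.TwoBlocks

open Cfsg Cfsg.Lie Cfsg.Agent.Lib.Helper18 Cfsg.Agent.Lib.Helper61.ChevJ

universe u

variable {F : Type u} [Field F] {D : ChevalleyDatum}

/-- `U_J ≤ U_{j}` for `j ∈ J`. -/
theorem unipotentRadical_le_singleton (J : Set ℕ) (j : ℕ) (hj : j ∈ J) :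
    D.unipotentRadical F J ≤ D.unipotentRadical F {j} := by
  unfold ChevalleyDatum.unipotentRadical
  apply Subgroup.closure_mono
  rintro g ⟨r, t, hr, hnot, hg⟩
  refine ⟨r, t, hr, ?_, hg⟩
  intro hin
  apply hnot
  refine ⟨hin.1, fun i hi hiJ => hin.2 i hi ?_⟩
  intro hij
  rw [Set.mem_singleton_iff] at hij
  exact hiJ (hij ▸ hj)

/-- `U_J = 1` if `J` contains all indices. -/
theorem unipotentRadical_eq_bot_of_all (J : Set ℕ) (hJ : ∀ i < D.rank, i ∈ J) :
    D.unipotentRadical F J = ⊥ := by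
  unfold ChevalleyDatum.unipotentRadical
  rw [Subgroup.closure_eq_bot_iff]
  rintro g ⟨r, t, hr, hnot, -⟩
  exact absurd ⟨hr.1, fun i hi hiJ => absurd (hJ i hi) hiJ⟩ hnot

/-- CORE-[N]. -/
theorem radical_le_of_monomial [Finite F] (hD : D ∈ [chevG2, chevB2, chevD4, chevF4, chevE6, chevE7, chevE8])
    (E : Subgroup (GL D.Idx F)) (m : GL D.Idx F) (hm : m ∈ D.monomialSubgroup F)
    (hE : E = D.posUnipotent F ⊓ (D.posUnipotent F).comap (MulAut.conj m).toMonoidHom)
    (hne : E ≠ ⊥) (J : Set ℕ) (hJ : ∀ i, i ∈ J ↔ i < D.rank ∧ E ≤ D.unipotentRadical F {i})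
    (hmax : ∀ y ∈ D.group F, E.map (MulAut.conj y⁻¹).toMonoidHom ≤ D.posUnipotent F →
      (∀ j ∈ J, E.map (MulAut.conj y⁻¹).toMonoidHom ≤ D.unipotentRadical F {j}) →
      ∀ i < D.rank, E.map (MulAut.conj y⁻¹).toMonoidHom ≤ D.unipotentRadical F {i} → i ∈ J) :
    (∃ i < D.rank, i ∉ J) ∧ D.unipotentRadical F J ≤ E := by
  obtain ⟨Z⟩ := nonempty_lData.{u} D hD
  obtain ⟨ws, h, hws, hh, hmw⟩ := isWordH_of_mem_monomial hD Z.Y.X.C m hm
  have hmemE : ∀ g : GL D.Idx F, g ∈ E ↔ g ∈ D.posUnipotent F ∧ m * g * m⁻¹ ∈ D.posUnipotent F := by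
    intro g
    rw [hE, Subgroup.mem_inf, Subgroup.mem_comap]
    rfl
  -- the fundamental roots of `J` become negative
  have hneg : ∀ j < D.rank, j ∈ J → wordRootF Z.Y.X.C.tabs ws (D.simple j) < D.nroots / 2 := by
    intro j hj hjJ
    by_contra hpos
    push Not at hpos
    have hsl := Z.Y.X.C.simple_lt j hj
    have hsp : D.IsPosRoot (D.simple j) := (isPosRoot_iff hD _).mpr ⟨hsl, Z.Y.X.C.half_le_simple j hj⟩
    have hxU : xG hD (D.simple j) (1 : F) ∈ D.posUnipotent F := xG_mem_posUnipotent hD _ _ hsp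
    obtain ⟨t', ht'⟩ := conj_word_xG hD Z.Y.X.C ws hws h hh (D.simple j) hsl (1 : F)
    have hxE : xG hD (D.simple j) (1 : F) ∈ E := by
      rw [hmemE]
      refine ⟨hxU, ?_⟩
      rw [hmw, ht']
      exact xG_mem_posUnipotent hD _ _
        ((isPosRoot_iff hD _).mpr ⟨wordRootF_lt Z.Y.X.C ws hws _ hsl, hpos⟩)
    have hxJ : xG hD (D.simple j) (1 : F) ∈ D.unipotentRadical F {j} := ((hJ j).mp hjJ).2 hxE
    have hxL : xG hD (D.simple j) (1 : F) ∈ D.leviSubgroup F {j} := by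
      unfold ChevalleyDatum.leviSubgroup
      apply Subgroup.mem_sup_right
      apply Subgroup.subset_closure
      exact ⟨D.simple j, 1, Z.Y.X.inRootSub_simple {j} j hj rfl, rfl⟩
    have hbot : xG hD (D.simple j) (1 : F) ∈ D.unipotentRadical F {j} ⊓ D.leviSubgroup F {j} :=
      Subgroup.mem_inf.mpr ⟨hxJ, hxL⟩
    rw [Z.Y.X.unipotentRadical_inf_levi hD {j}, Subgroup.mem_bot] at hbot
    have h1 : D.x F (D.simple j) (1 : F) = 1 := by
      have := congrArg (fun g : GL D.Idx F => (g : Matrix D.Idx D.Idx F)) hbot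
      simpa using this
    exact one_ne_zero ((Cfsg.Agent.S1024.result D hD _ hsl (1 : F)).mp h1)
  -- `E ≤ U_J`
  have hEJ : E ≤ D.unipotentRadical F J := by
    intro g hg
    obtain ⟨hgU, hgm⟩ := (hmemE g).mp hg
    rw [hmw] at hgm
    have hcl := mem_closure_of_conj_mem hD Z.Y.X.C ws hws h hh g hgU hgm
    refine (Subgroup.closure_le _).mpr ?_ hcl
    rintro x ⟨s, t, ⟨hs, hsp⟩, hx⟩
    refine Subgroup.subset_closure ⟨s, t, hs, ?_, hx⟩
    intro hin
    have := wordRootF_neg_of_simple_neg hD Z ws hws J hneg s hs hin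
    omega
  -- `J` is proper
  have hprop : ∃ i < D.rank, i ∉ J := by
    by_contra hall
    push Not at hall
    apply hne
    rw [eq_bot_iff]
    exact hEJ.trans (le_of_eq (unipotentRadical_eq_bot_of_all J hall))
  refine ⟨hprop, ?_⟩
  -- `m ∈ P_J`
  have hmP : m ∈ D.parabolicSubgroup F J := by
    apply mem_parabolic_of_walk hD J E hEJ ?_ m hm (fun g hg => ((hmemE g).mp hg).2)
    intro y hy i hi hle
    have hyG : y ∈ D.group F := Cfsg.Agent.S1049.parabolic_le_group hD Z.Y.X.C J hy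
    have hconjJ : E.map (MulAut.conj y⁻¹).toMonoidHom ≤ D.unipotentRadical F J := by
      rintro _ ⟨g, hg, rfl⟩
      have e0 : (MulAut.conj y⁻¹).toMonoidHom g = y⁻¹ * g * y⁻¹⁻¹ := by
        show (MulAut.conj y⁻¹) g = _
        rw [MulAut.conj_apply]
      rw [e0]
      have hn := parabolic_le_normalizer hD Z.Y.X J (inv_mem hy)
      exact (Subgroup.mem_normalizer_iff.mp hn g).mp (hEJ hg)
    exact hmax y hyG (hconjJ.trans (unipotentRadical_le_posUnipotent J))
      (fun j hj => hconjJ.trans (unipotentRadical_le_singleton J j hj)) i hi hle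
  -- `U_J ≤ E`
  intro g hg
  rw [hmemE]
  refine ⟨unipotentRadical_le_posUnipotent J hg, ?_⟩
  have hn := parabolic_le_normalizer hD Z.Y.X J hmP
  exact unipotentRadical_le_posUnipotent J ((Subgroup.mem_normalizer_iff.mp hn g).mp hg)

end Cfsg.Agent.Lib.Helper82.TwoBlocks
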