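/-
helper82 (S2441): CORE-[B] and MAX — a conjugation-closed family of nontrivial subgroups with Green's property
with respect to `U` has a member containing the unipotent radical `U_J` of a proper parabolic subgroup.
-/
import Cfsg.Agent.Lib.Helper82.TwoBlocks.CoreN

set_option autoImplicit false

namespace Cfsg.Agent.Lib.Helper82.TwoBlocks

open Cfsg Cfsg.Lie Cfsg.Agent.Lib.Helper18 Cfsg.Agent.Lib.Helper61.ChevJ

universe u

variable {F : Type u} [Field F] {D : ChevalleyDatum}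

theorem mem_map_conj_iff {G : Type*} [Group G] (K : Subgroup G) (a g : G) :
    g ∈ K.map (MulAut.conj a).toMonoidHom ↔ a⁻¹ * g * a ∈ K := by
  constructor
  · rintro ⟨k, hk, rfl⟩
    have e : a⁻¹ * (MulAut.conj a).toMonoidHom k * a = k := by
      show a⁻¹ * (MulAut.conj a) k * a = k
      rw [MulAut.conj_apply]; group
    rw [e]; exact hk
  · intro h
    refine ⟨a⁻¹ * g * a, h, ?_⟩
    show (MulAut.conj a) (a⁻¹ * g * a) = g
    rw [MulAut.conj_apply]; group

theorem map_conj_map_conj {G : Type*} [Group G] (K : Subgroup G) (a b : G) :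
    (K.map (MulAut.conj a).toMonoidHom).map (MulAut.conj b).toMonoidHom
      = K.map (MulAut.conj (b * a)).toMonoidHom := by
  ext g
  rw [mem_map_conj_iff, mem_map_conj_iff, mem_map_conj_iff]
  have e : a⁻¹ * (b⁻¹ * g * b) * a = (b * a)⁻¹ * g * (b * a) := by group
  rw [e]

/-- `B` normalizes `U`. -/
theorem borel_conj_mem_posUnipotent (hD : D ∈ [chevG2, chevB2, chevD4, chevF4, chevE6, chevE7, chevE8])
    (b : GL D.Idx F) (hb : b ∈ D.borelSubgroup F) (g : GL D.Idx F) :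
    g ∈ D.posUnipotent F ↔ b * g * b⁻¹ ∈ D.posUnipotent F := by
  have hBN : D.borelSubgroup F ≤ Subgroup.normalizer (D.posUnipotent F : Set (GL D.Idx F)) :=
    sup_le Subgroup.le_normalizer (Cfsg.Agent.S1036.result D hD).1
  exact Subgroup.mem_normalizer_iff.mp (hBN hb) g

/-- `B` normalizes `U_J`. -/
theorem borel_conj_mem_unipotentRadical (hD : D ∈ [chevG2, chevB2, chevD4, chevF4, chevE6, chevE7, chevE8])
    (X : JData.{u} D) (J : Set ℕ) (b : GL D.Idx F) (hb : b ∈ D.borelSubgroup F) (g : GL D.Idx F) :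
    g ∈ D.unipotentRadical F J ↔ b * g * b⁻¹ ∈ D.unipotentRadical F J := by
  have hBP : D.borelSubgroup F ≤ D.parabolicSubgroup F J := by
    unfold ChevalleyDatum.parabolicSubgroup
    exact le_sup_left
  exact Subgroup.mem_normalizer_iff.mp (parabolic_le_normalizer hD X J (hBP hb)) g

/-- CORE-[B]. -/
theorem radical_le_of_green [Finite F] (hD : D ∈ [chevG2, chevB2, chevD4, chevF4, chevE6, chevE7, chevE8])
    (E : Subgroup (GL D.Idx F)) (x : GL D.Idx F) (hx : x ∈ D.group F)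
    (hE : E = D.posUnipotent F ⊓ (D.posUnipotent F).map (MulAut.conj x).toMonoidHom)
    (hne : E ≠ ⊥) (J : Set ℕ) (hJ : ∀ i, i ∈ J ↔ i < D.rank ∧ E ≤ D.unipotentRadical F {i})
    (hmax : ∀ y ∈ D.group F, E.map (MulAut.conj y⁻¹).toMonoidHom ≤ D.posUnipotent F →
      (∀ j ∈ J, E.map (MulAut.conj y⁻¹).toMonoidHom ≤ D.unipotentRadical F {j}) →
      ∀ i < D.rank, E.map (MulAut.conj y⁻¹).toMonoidHom ≤ D.unipotentRadical F {i} → i ∈ J) :
    (∃ i < D.rank, i ∉ J) ∧ D.unipotentRadical F J ≤ E := by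
  obtain ⟨Z⟩ := nonempty_lData.{u} D hD
  obtain ⟨L⟩ := nonempty_levelData D hD
  obtain ⟨hBG, hNG, -⟩ := Cfsg.Agent.S1043.result (F := F) D hD
  obtain ⟨b, hb, n, hn, u, hu, hxbnu⟩ := exists_bruhat_form hD Z.Y.X.C L x hx
  have huU : u ∈ D.posUnipotent F := closure_UnegSet_le D n hu
  have hbi : b⁻¹ ∈ D.borelSubgroup F := inv_mem hb
  -- membership in `E`
  have hmemE : ∀ g : GL D.Idx F, g ∈ E ↔ g ∈ D.posUnipotent F ∧ x⁻¹ * g * x ∈ D.posUnipotent F := by
    intro g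
    rw [hE, Subgroup.mem_inf, mem_map_conj_iff]
  set E' : Subgroup (GL D.Idx F) := E.map (MulAut.conj b⁻¹).toMonoidHom with hE'def
  have hmemE' : ∀ g : GL D.Idx F, g ∈ E' ↔ b * g * b⁻¹ ∈ E := by
    intro g
    rw [hE'def, mem_map_conj_iff, inv_inv]
  have hE' : E' = D.posUnipotent F ⊓ (D.posUnipotent F).comap (MulAut.conj n⁻¹).toMonoidHom := by
    ext g
    rw [hmemE', hmemE, Subgroup.mem_inf, Subgroup.mem_comap]
    have e1 : (MulAut.conj n⁻¹).toMonoidHom g = n⁻¹ * g * n := by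
      show (MulAut.conj n⁻¹) g = _
      rw [MulAut.conj_apply, inv_inv]
    rw [e1, ← borel_conj_mem_posUnipotent hD b hb g]
    have e2 : x⁻¹ * (b * g * b⁻¹) * x = u⁻¹ * (n⁻¹ * g * n) * u⁻¹⁻¹ := by
      rw [hxbnu]; group
    rw [e2, ← borel_conj_mem_posUnipotent hD u⁻¹ (borel_of_posUnipotent _ (inv_mem huU))]
  have hne' : E' ≠ ⊥ := by
    intro h0
    apply hne
    rw [eq_bot_iff]
    intro g hg
    have : b⁻¹ * g * b ∈ E' := by
      rw [hmemE']
      have e : b * (b⁻¹ * g * b) * b⁻¹ = g := by group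
      rw [e]; exact hg
    rw [h0, Subgroup.mem_bot] at this
    rw [Subgroup.mem_bot]
    have e : g = b * (b⁻¹ * g * b) * b⁻¹ := by group
    rw [e, this]; group
  have hleiff : ∀ K : Set ℕ, E' ≤ D.unipotentRadical F K ↔ E ≤ D.unipotentRadical F K := by
    intro K
    constructor
    · intro h g hg
      have h1 : b⁻¹ * g * b ∈ E' := by
        rw [hmemE']
        have e : b * (b⁻¹ * g * b) * b⁻¹ = g := by group
        rw [e]; exact hg
      have h2 := h h1
      rw [borel_conj_mem_unipotentRadical hD Z.Y.X K b hb] at h2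
      have e : b * (b⁻¹ * g * b) * b⁻¹ = g := by group
      rwa [e] at h2
    · intro h g hg
      rw [hmemE'] at hg
      rw [borel_conj_mem_unipotentRadical hD Z.Y.X K b hb]
      exact h hg
  have hJ' : ∀ i, i ∈ J ↔ i < D.rank ∧ E' ≤ D.unipotentRadical F {i} := by
    intro i
    rw [hJ i, hleiff]
  have hmap : ∀ y : GL D.Idx F, E'.map (MulAut.conj y⁻¹).toMonoidHom
      = E.map (MulAut.conj (b * y)⁻¹).toMonoidHom := by
    intro y
    rw [hE'def, map_conj_map_conj, mul_inv_rev]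
  have hmax' : ∀ y ∈ D.group F, E'.map (MulAut.conj y⁻¹).toMonoidHom ≤ D.posUnipotent F →
      (∀ j ∈ J, E'.map (MulAut.conj y⁻¹).toMonoidHom ≤ D.unipotentRadical F {j}) →
      ∀ i < D.rank, E'.map (MulAut.conj y⁻¹).toMonoidHom ≤ D.unipotentRadical F {i} → i ∈ J := by
    intro y hy
    rw [hmap y]
    exact hmax (b * y) (mul_mem (hBG hb) hy)
  obtain ⟨hprop, hUJ⟩ := radical_le_of_monomial hD E' n⁻¹ (inv_mem hn) hE' hne' J hJ' hmax'
  refine ⟨hprop, ?_⟩
  intro g hg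
  have h1 : b⁻¹ * g * b⁻¹⁻¹ ∈ D.unipotentRadical F J :=
    (borel_conj_mem_unipotentRadical hD Z.Y.X J b⁻¹ hbi g).mp hg
  have h2 := hUJ h1
  rw [hmemE'] at h2
  have e : b * (b⁻¹ * g * b⁻¹⁻¹) * b⁻¹ = g := by group
  rwa [e] at h2

/-- MAX (Theorem A'). -/
theorem exists_radical_le [Finite F] (hD : D ∈ [chevG2, chevB2, chevD4, chevF4, chevE6, chevE7, chevE8])
    (𝒞 : Set (Subgroup (GL D.Idx F)))
    (hconj : ∀ E ∈ 𝒞, ∀ g ∈ D.group F, E.map (MulAut.conj g).toMonoidHom ∈ 𝒞)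
    (hgreen : ∀ E ∈ 𝒞, E ≤ D.posUnipotent F → ∃ x ∈ D.group F,
      E = D.posUnipotent F ⊓ (D.posUnipotent F).map (MulAut.conj x).toMonoidHom)
    (hnt : ∀ E ∈ 𝒞, E ≠ ⊥) (hex : ∃ E ∈ 𝒞, E ≤ D.posUnipotent F) :
    ∃ E ∈ 𝒞, ∃ J : Set ℕ, (∃ i < D.rank, i ∉ J) ∧ D.unipotentRadical F J ≤ E := by
  classical
  let jset : Subgroup (GL D.Idx F) → Finset ℕ := fun E =>
    (Finset.range D.rank).filter fun i => E ≤ D.unipotentRadical F {i}
  have hjset : ∀ E i, i ∈ jset E ↔ i < D.rank ∧ E ≤ D.unipotentRadical F {i} := by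
    intro E i
    simp only [jset, Finset.mem_filter, Finset.mem_range]
  let P : ℕ → Prop := fun k => ∃ E ∈ 𝒞, E ≤ D.posUnipotent F ∧ (jset E).card = k
  have hbound : ∀ E, (jset E).card ≤ D.rank := by
    intro E
    calc (jset E).card ≤ (Finset.range D.rank).card := Finset.card_filter_le _ _
      _ = D.rank := Finset.card_range _
  obtain ⟨E₀, hE₀C, hE₀U⟩ := hex
  have hP0 : P (jset E₀).card := ⟨E₀, hE₀C, hE₀U, rfl⟩
  obtain ⟨E, hEC, hEU, hEk⟩ := Nat.findGreatest_spec (P := P) (hbound E₀) hP0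
  have hEmax : ∀ E' ∈ 𝒞, E' ≤ D.posUnipotent F → (jset E').card ≤ (jset E).card := by
    intro E' hE'C hE'U
    rw [hEk]
    exact Nat.le_findGreatest (hbound E') ⟨E', hE'C, hE'U, rfl⟩
  obtain ⟨x, hx, hEx⟩ := hgreen E hEC hEU
  refine ⟨E, hEC, {i | i ∈ jset E}, ?_⟩
  apply radical_le_of_green hD E x hx hEx (hnt E hEC) {i | i ∈ jset E} (fun i => hjset E i)
  intro y hy hyU hyJ i hi hle
  have hC' := hconj E hEC y⁻¹ (inv_mem hy)
  have hcard := hEmax _ hC' hyU
  have hsub : jset E ⊆ jset (E.map (MulAut.conj y⁻¹).toMonoidHom) := by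
    intro j hj
    rw [hjset]
    exact ⟨((hjset E j).mp hj).1, hyJ j hj⟩
  have heq := Finset.eq_of_subset_of_card_le hsub hcard
  show i ∈ jset E
  rw [heq, hjset]
  exact ⟨hi, hle⟩

end Cfsg.Agent.Lib.Helper82.TwoBlocks
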